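import Mathlib

/-! Carmichael's presentation of the alternating groups, and a configuration in `A₅`. -/

set_option autoImplicit false
set_option linter.unusedVariables false

namespace Cfsg.Agent.YK

open Subgroup Equiv

theorem carm_step {G : Type*} [Group G] {m : ℕ} (x : Fin (m + 1) → G) (h3 : ∀ i, x i ^ 3 = 1)
    (h2 : ∀ i j, i ≠ j → (x i * x j) ^ 2 = 1) {g : G} (hg : g ∈ closure (Set.range x)) :
    ∃ k ∈ closure (Set.range fun i : Fin m => x i.succ), ∃ t : Fin 3 ⊕ Fin m,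
      g = k * Sum.elim (fun a : Fin 3 => x 0 ^ (a : ℕ)) (fun i : Fin m => x 0 * (x i.succ)⁻¹) t := by
  set K := closure (Set.range fun i : Fin m => x i.succ)
  have mK : ∀ i : Fin m, x i.succ ∈ K := fun i => subset_closure ⟨i, rfl⟩
  have c3 : ∀ i, x i * x i = (x i)⁻¹ := fun i => by
    rw [eq_inv_iff_mul_eq_one, ← h3 i, pow_three']
  have r : ∀ i j, i ≠ j → x i * x j * x i = (x j)⁻¹ := fun i j n => by
    rw [eq_inv_iff_mul_eq_one, ← h2 i j n, pow_two, mul_assoc]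
  have step : ∀ g, (∃ k ∈ K, ∃ t : Fin 3 ⊕ Fin m,
      g = k * Sum.elim (fun a : Fin 3 => x 0 ^ (a : ℕ)) (fun i : Fin m => x 0 * (x i.succ)⁻¹) t) → ∀ j,
      ∃ k ∈ K, ∃ t : Fin 3 ⊕ Fin m,
      g * x j = k * Sum.elim (fun a : Fin 3 => x 0 ^ (a : ℕ)) (fun i : Fin m => x 0 * (x i.succ)⁻¹) t := by
    rintro _ ⟨k, hk, t, rfl⟩ j
    induction j using Fin.cases with
    | zero =>
      rcases t with a | i
      · fin_cases a
        · exact ⟨k, hk, .inl 1, by simp⟩
        · exact ⟨k, hk, .inl 2, by simp [pow_two, mul_assoc]⟩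
        · exact ⟨k, hk, .inl 0, by simp [mul_assoc, ← pow_succ, h3]⟩
      · refine ⟨k * (x i.succ)⁻¹, mul_mem hk (inv_mem (mK i)), .inr i, ?_⟩
        have a := r _ _ (Fin.succ_ne_zero i).symm
        have b := r _ _ (Fin.succ_ne_zero i)
        simp only [Sum.elim_inr, mul_assoc, mul_right_inj]
        calc x 0 * ((x i.succ)⁻¹ * x 0)
            = x 0 * ((x i.succ)⁻¹ * (x i.succ)⁻¹) * (x i.succ * x 0 * x i.succ) * (x i.succ)⁻¹ := by
              group
          _ = x 0 * x i.succ * (x 0 * x 0) * (x i.succ)⁻¹ := by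
              rw [b, c3 0, ← mul_inv_rev, c3, inv_inv]
          _ = (x 0 * x i.succ * x 0) * (x 0 * (x i.succ)⁻¹) := by group
          _ = _ := by rw [a]
    | succ j =>
      have a := r _ _ (Fin.succ_ne_zero j).symm
      have b := r _ _ (Fin.succ_ne_zero j)
      rcases t with a | i
      · fin_cases a
        · exact ⟨k * x j.succ, mul_mem hk (mK j), .inl 0, by simp⟩
        · refine ⟨k * (x j.succ)⁻¹, mul_mem hk (inv_mem (mK j)), .inl 2, ?_⟩
          simp only [Sum.elim_inl, pow_one, mul_assoc, mul_right_inj]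
          rw [← a, show ((2 : Fin 3) : ℕ) = 2 from rfl, pow_two, c3]; group
        · refine ⟨k * x j.succ, mul_mem hk (mK j), .inr j, ?_⟩
          simp only [Sum.elim_inl, Sum.elim_inr, mul_assoc, mul_right_inj]
          rw [pow_two, c3 0, ← b, mul_assoc, mul_assoc, c3]
      · by_cases ij : i = j
        · exact ⟨k, hk, .inl 1, by simp [ij, mul_assoc]⟩
        refine ⟨k * ((x i.succ)⁻¹ * x j.succ), mul_mem hk (mul_mem (inv_mem (mK i)) (mK j)), .inr i, ?_⟩
        have c := r i.succ j.succ (by simpa using ij)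
        have d := r _ _ (Fin.succ_ne_zero i).symm
        simp only [Sum.elim_inr, mul_assoc, mul_right_inj]
        calc x 0 * ((x i.succ)⁻¹ * x j.succ) = x 0 * ((x i.succ * x i.succ) * x j.succ) := by rw [c3]
          _ = x 0 * x i.succ * (x i.succ * x j.succ * x i.succ) * (x i.succ)⁻¹ := by group
          _ = (x 0 * x i.succ * x 0) * (x j.succ * x 0) * (x i.succ)⁻¹ := by
              rw [c, ← a]; group
          _ = _ := by rw [d]; group
  refine closure_induction_right (p := fun g _ => ∃ k ∈ K, ∃ t : Fin 3 ⊕ Fin m,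
      g = k * Sum.elim (fun a : Fin 3 => x 0 ^ (a : ℕ)) (fun i : Fin m => x 0 * (x i.succ)⁻¹) t)
    ⟨1, one_mem _, .inl 0, by simp⟩ ?_ ?_ hg
  · rintro g - _ ⟨j, rfl⟩ ih; exact step g ih j
  · rintro g - _ ⟨j, rfl⟩ ih
    rw [← c3, ← mul_assoc]; exact step _ (step g ih j) j

theorem carm_bd {G : Type*} [Group G] : ∀ (m : ℕ) (x : Fin m → G), (∀ i, x i ^ 3 = 1) →
    (∀ i j, i ≠ j → (x i * x j) ^ 2 = 1) → Finite (closure (Set.range x)) ∧
      2 * Nat.card (closure (Set.range x)) ≤ (m + 2).factorial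
  | 0, x, _, _ => by
    rw [Set.range_eq_empty, Subgroup.closure_empty]
    exact ⟨inferInstance, by simp⟩
  | m + 1, x, h3, h2 => by
    obtain ⟨f, b⟩ := carm_bd m (fun i => x i.succ) (fun i => h3 _) fun i j n => h2 _ _ (by simpa)
    have le : closure (Set.range fun i : Fin m => x i.succ) ≤ closure (Set.range x) :=
      closure_mono (by rintro _ ⟨i, rfl⟩; exact ⟨_, rfl⟩)
    have mx : ∀ i, x i ∈ closure (Set.range x) := fun i => subset_closure ⟨i, rfl⟩
    let F : closure (Set.range fun i : Fin m => x i.succ) × (Fin 3 ⊕ Fin m) → closure (Set.range x) :=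
      fun p => ⟨p.1 * Sum.elim (fun a : Fin 3 => x 0 ^ (a : ℕ)) (fun i : Fin m => x 0 * (x i.succ)⁻¹) p.2,
        mul_mem (le p.1.2) (by
          rcases p.2 with a | i
          · exact pow_mem (mx 0) _
          · exact mul_mem (mx 0) (inv_mem (mx _)))⟩
    have s : Function.Surjective F := fun g => by
      obtain ⟨k, hk, t, e⟩ := carm_step x h3 h2 g.2
      exact ⟨(⟨k, hk⟩, t), Subtype.ext e.symm⟩
    refine ⟨Finite.of_surjective F s, ?_⟩
    have := Nat.card_le_card_of_surjective F s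
    rw [Nat.card_prod, Nat.card_sum, Nat.card_eq_fintype_card (α := Fin 3),
      Nat.card_eq_fintype_card (α := Fin m), Fintype.card_fin, Fintype.card_fin] at this
    rw [show m + 1 + 2 = m + 2 + 1 by ring, Nat.factorial_succ]
    nlinarith

/-- the standard generators `(0 1 i+2)` -/
def ca (m : ℕ) (i : Fin m) : alternatingGroup (Fin (m + 2)) :=
  ⟨swap 0 1 * swap 0 i.succ.succ, by
    rw [Perm.mem_alternatingGroup, Perm.sign_mul, Perm.sign_swap (by simp),
      Perm.sign_swap (Fin.succ_ne_zero _).symm]; rfl⟩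

theorem ss1 {m : ℕ} (i : Fin m) : (1 : Fin (m + 2)) ≠ i.succ.succ := by
  rw [← Fin.succ_zero_eq_one]; exact fun e => Fin.succ_ne_zero _ (Fin.succ_injective _ e).symm

theorem ca3 {m : ℕ} (i : Fin m) : orderOf (ca m i) = 3 := by
  rw [← orderOf_coe]
  exact (Perm.isThreeCycle_swap_mul_swap_same (by simp) (Fin.succ_ne_zero _).symm (ss1 i)).orderOf

theorem ca2 {m : ℕ} {i j : Fin m} (n : i ≠ j) : (ca m i * ca m j) ^ 2 = 1 := by
  refine Subtype.ext ?_
  have e : swap (0 : Fin (m + 2)) 1 * swap 0 i.succ.succ * swap 0 1 = swap 1 i.succ.succ := by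
    simpa [swap_apply_of_ne_of_ne (Fin.succ_ne_zero _) (ss1 i).symm] using
      (swap_apply_apply (swap (0 : Fin (m + 2)) 1) 0 i.succ.succ).symm
  have c : swap (0 : Fin (m + 2)) j.succ.succ * swap 1 i.succ.succ =
      swap 1 i.succ.succ * swap 0 j.succ.succ := by
    rw [← mul_inv_eq_iff_eq_mul, ← swap_apply_apply, swap_apply_of_ne_of_ne (by simp) (ss1 j),
      swap_apply_of_ne_of_ne (Fin.succ_ne_zero _) (by simpa using n)]
  show (swap 0 1 * swap 0 i.succ.succ * (swap 0 1 * swap 0 j.succ.succ)) ^ 2 = (1 : Perm (Fin (m + 2)))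
  rw [← mul_assoc, e, pow_two, mul_assoc, ← mul_assoc (swap 0 j.succ.succ), c]
  simp [mul_assoc]

theorem ca_gen (m : ℕ) : closure (Set.range (ca m)) = ⊤ := by
  let H := (closure (Set.range (ca m))).map (alternatingGroup (Fin (m + 2))).subtype
  have hs : ∀ k : Fin (m + 2), k ≠ 0 → swap 0 1 * swap 0 k ∈ H := fun k hk => by
    induction k using Fin.cases with
    | zero => exact absurd rfl hk
    | succ k =>
      induction k using Fin.cases with
      | zero => simpa using one_mem H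
      | succ k => exact ⟨ca m k, Subgroup.subset_closure ⟨k, rfl⟩, rfl⟩
  have st : ∀ k : Fin (m + 2), k ≠ 0 → ∀ f, (f ∈ H ∨ swap 0 1 * f ∈ H) →
      (swap 0 k * f ∈ H ∨ swap 0 1 * (swap 0 k * f) ∈ H) := fun k hk f h => by
    rcases h with h | h
    · right; rw [← mul_assoc]; exact mul_mem (hs k hk) h
    · left; simpa [mul_assoc] using mul_mem (inv_mem (hs k hk)) h
  have all : ∀ f : Perm (Fin (m + 2)), f ∈ H ∨ swap 0 1 * f ∈ H := fun f => by
    refine Perm.swap_induction_on f (Or.inl (one_mem _)) fun f a b n ih => ?_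
    by_cases a0 : a = 0
    · subst a0; exact st b n.symm f ih
    by_cases b0 : b = 0
    · subst b0; rw [swap_comm a]; exact st a n f ih
    have : swap a b = swap 0 a * (swap 0 b * swap 0 a) := by
      simpa [swap_apply_of_ne_of_ne b0 n.symm, mul_assoc] using swap_apply_apply (swap 0 a) 0 b
    rw [this, mul_assoc, mul_assoc]
    exact st a a0 _ (st b b0 _ (st a a0 f ih))
  refine top_le_iff.1 fun g _ => ?_
  rcases all g with ⟨k, hk, e⟩ | ⟨k, hk, e⟩
  · exact (Subtype.ext e : k = g) ▸ hk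
  · have := congrArg Perm.sign e
    rw [Perm.sign_mul, Perm.sign_swap (by simp), Perm.mem_alternatingGroup.1 g.2,
      show Perm.sign ((alternatingGroup _).subtype k) = 1 from Perm.mem_alternatingGroup.1 k.2] at this
    exact absurd this (by decide)

theorem carm' {G : Type*} [Group G] {m : ℕ} (hm : 3 ≤ m) (x : Fin m → G) (h3 : ∀ i, x i ^ 3 = 1)
    (h2 : ∀ i j, i ≠ j → (x i * x j) ^ 2 = 1) (ne : ∃ i, x i ≠ 1) :
    ∃ e : closure (Set.range x) ≃* alternatingGroup (Fin (m + 2)),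
      ∀ i, e ⟨x i, subset_closure ⟨i, rfl⟩⟩ = ca m i := by
  let y : Fin m → G × alternatingGroup (Fin (m + 2)) := fun i => (x i, ca m i)
  obtain ⟨f, b⟩ := carm_bd m y (fun i => Prod.ext (h3 i) (ca3 i ▸ pow_orderOf_eq_one _))
    fun i j n => Prod.ext (h2 i j n) (ca2 n)
  let Δ := closure (Set.range y)
  have my : ∀ i, y i ∈ Δ := fun i => subset_closure ⟨i, rfl⟩
  let p2 := (MonoidHom.snd _ _).comp Δ.subtype
  have s2 : Function.Surjective p2 := by
    rw [← MonoidHom.range_eq_top, ← top_le_iff, ← ca_gen, closure_le]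
    rintro _ ⟨i, rfl⟩; exact ⟨⟨y i, my i⟩, rfl⟩
  have b2 : Function.Bijective p2 := (Nat.bijective_iff_surjective_and_card _).2 ⟨s2, le_antisymm (by
    have := two_mul_nat_card_alternatingGroup (α := Fin (m + 2))
    rw [Nat.card_perm, Nat.card_eq_fintype_card (α := Fin (m + 2)), Fintype.card_fin] at this
    have e : Nat.card Δ = Nat.card (closure (Set.range y)) := rfl
    omega) (Nat.card_le_card_of_surjective _ s2)⟩
  have : IsSimpleGroup (alternatingGroup (Fin (m + 2))) :=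
    alternatingGroup.isSimpleGroup (by simp; omega)
  have : IsSimpleGroup Δ := (MulEquiv.ofBijective p2 b2).isSimpleGroup
  let p1 : Δ →* closure (Set.range x) := ((MonoidHom.fst _ _).comp Δ.subtype).codRestrict _ fun g =>
    (show Δ ≤ (closure (Set.range x)).comap (MonoidHom.fst _ _) from (closure_le _).2 (by
      rintro _ ⟨i, rfl⟩; exact subset_closure ⟨i, rfl⟩)) g.2
  have s1 : Function.Surjective p1 := fun g => by
    obtain ⟨k, hk, e⟩ := (show closure (Set.range x) ≤ Δ.map (MonoidHom.fst _ _) from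
      (closure_le _).2 (by rintro _ ⟨i, rfl⟩; exact ⟨y i, my i, rfl⟩)) g.2
    exact ⟨⟨k, hk⟩, Subtype.ext e⟩
  have i1 : Function.Injective p1 := by
    rw [← MonoidHom.ker_eq_bot_iff]
    refine (IsSimpleGroup.eq_bot_or_eq_top_of_normal p1.ker inferInstance).resolve_right fun e => ?_
    obtain ⟨i, hi⟩ := ne
    exact hi (congrArg Subtype.val (e.ge (mem_top (⟨y i, my i⟩ : Δ))))
  refine ⟨(MulEquiv.ofBijective p1 ⟨i1, s1⟩).symm.trans (MulEquiv.ofBijective p2 b2), fun i => ?_⟩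
  exact congrArg (MulEquiv.ofBijective p2 b2)
    ((MulEquiv.ofBijective p1 ⟨i1, s1⟩).symm_apply_apply ⟨y i, my i⟩)

theorem carm {G : Type*} [Group G] {m : ℕ} (hm : 3 ≤ m) (x : Fin m → G) (h3 : ∀ i, x i ^ 3 = 1)
    (h2 : ∀ i j, i ≠ j → (x i * x j) ^ 2 = 1) (ne : ∃ i, x i ≠ 1) :
    Nonempty (closure (Set.range x) ≃* alternatingGroup (Fin (m + 2))) :=
  ⟨(carm' hm x h3 h2 ne).choose⟩

/-- the conclusion of `a5` -/
def A5Q {Y : Type*} [Group Y] (x y : Y) : Prop :=
  ∃ k, k ^ 3 = 1 ∧ (k * x) ^ 2 = 1 ∧ (k * y) ^ 2 = 1 ∧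
    (∀ k', k' ^ 3 = 1 → (k' * x) ^ 2 = 1 → (k' * y) ^ 2 = 1 → k' = k) ∧
    closure {x, y, k} = ⊤ ∧ ∀ θ : Y →* Y, θ x = y → θ y = x → θ k = k →
      ∀ k', k' ^ 3 = 1 → θ k' = k' → k' = 1 ∨ k' = k ∨ k' = k⁻¹

theorem A5Q.map {Y Z : Type*} [Group Y] [Group Z] (e : Y ≃* Z) {x y : Y} (h : A5Q x y) :
    A5Q (e x) (e y) := by
  obtain ⟨k, k1, k2, k3, k4, k5, k6⟩ := h
  refine ⟨e k, by rw [← map_pow, k1, map_one], by rw [← map_mul, ← map_pow, k2, map_one],
    by rw [← map_mul, ← map_pow, k3, map_one], fun k' a b c => ?_, ?_, fun θ a b c k' d f => ?_⟩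
  · obtain ⟨k', rfl⟩ := e.surjective k'
    rw [k4 k' (e.injective (by simpa using a)) (e.injective (by simpa using b))
      (e.injective (by simpa using c))]
  · have := congrArg (Subgroup.map e.toMonoidHom) k5
    rwa [MonoidHom.map_closure, map_top_of_surjective _ e.surjective, Set.image_insert_eq,
      Set.image_insert_eq, Set.image_singleton] at this
  · obtain ⟨k', rfl⟩ := e.surjective k'
    have := k6 (e.symm.toMonoidHom.comp (θ.comp e.toMonoidHom)) (by simp [a]) (by simp [b])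
      (by simp [c]) k' (e.injective (by simpa using d)) (by simp [f])
    simpa only [← map_inv, e.injective.eq_iff, ← map_one e] using this

theorem a5q0 : A5Q (ca 3 0) (ca 3 1) := by
  have g : closure {ca 3 0, ca 3 1, ca 3 2} = ⊤ := by
    rw [← ca_gen 3]; congr 1; ext g; simp [Fin.exists_fin_succ, eq_comm]
  refine ⟨ca 3 2, by simpa only [ca3] using pow_orderOf_eq_one (ca 3 2), ca2 (by decide), ca2 (by decide),
    fun k a b c => ?_, g, fun θ a b c k d f => ?_⟩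
  · have : ∀ k : Perm (Fin 5), k ^ 3 = 1 → (k * (ca 3 0).1) ^ 2 = 1 → (k * (ca 3 1).1) ^ 2 = 1 →
      k = (ca 3 2).1 := by decide +kernel
    exact Subtype.ext (this k (congrArg Subtype.val a) (congrArg Subtype.val b)
      (congrArg Subtype.val c))
  · have e : θ = (MulAut.conjNormal (swap 2 3 : Perm (Fin 5))).toMonoidHom := by
      refine MonoidHom.eq_of_eqOn_dense g ?_
      rintro _ (rfl | rfl | rfl)
      · rw [a]; exact Subtype.ext (show _ = swap 2 3 * (ca 3 0).1 * (swap 2 3)⁻¹ by decide +kernel)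
      · rw [b]; exact Subtype.ext (show _ = swap 2 3 * (ca 3 1).1 * (swap 2 3)⁻¹ by decide +kernel)
      · rw [c]; exact Subtype.ext (show _ = swap 2 3 * (ca 3 2).1 * (swap 2 3)⁻¹ by decide +kernel)
    have : ∀ k : Perm (Fin 5), k ^ 3 = 1 → swap 2 3 * k * (swap 2 3)⁻¹ = k →
      k = 1 ∨ k = (ca 3 2).1 ∨ k = (ca 3 2).1⁻¹ := by decide +kernel
    rw [e] at f
    exact (this k (congrArg Subtype.val d) (congrArg Subtype.val f)).imp Subtype.ext
      (Or.imp Subtype.ext Subtype.ext)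

theorem a5pair {x y : Perm (Fin 5)} (x3 : x ^ 3 = 1) (x1 : x ≠ 1) (y3 : y ^ 3 = 1)
    (h : (x * y) ^ 2 = 1) (n : x * y ≠ 1) :
    ∃ s : Perm (Fin 5), s * x * s⁻¹ = (ca 3 0).1 ∧ s * y * s⁻¹ = (ca 3 1).1 := by
  have t : ∀ x : Perm (Fin 5), x ^ 3 = 1 → x ≠ 1 → x.support.card = 3 := by decide +kernel
  obtain ⟨s, hs⟩ := isConj_iff.1 (Perm.isConj_iff_cycleType_eq.2
    ((card_support_eq_three_iff.1 (t x x3 x1)).cycleType.trans
      (card_support_eq_three_iff.1 (t (ca 3 0).1 (by decide +kernel) (by decide +kernel))).cycleType.symm))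
  have k : ∀ y : Perm (Fin 5), y ^ 3 = 1 → ((ca 3 0).1 * y) ^ 2 = 1 → (ca 3 0).1 * y ≠ 1 →
      ∃ a : Fin 3, ∃ b : Fin 2, ((ca 3 0).1 ^ (a : ℕ) * swap 3 4 ^ (b : ℕ)) * y *
        ((ca 3 0).1 ^ (a : ℕ) * swap 3 4 ^ (b : ℕ))⁻¹ = (ca 3 1).1 := by decide +kernel
  have k' : ∀ a : Fin 3, ∀ b : Fin 2, ((ca 3 0).1 ^ (a : ℕ) * swap 3 4 ^ (b : ℕ)) * (ca 3 0).1 *
        ((ca 3 0).1 ^ (a : ℕ) * swap 3 4 ^ (b : ℕ))⁻¹ = (ca 3 0).1 := by decide +kernel
  have e : (ca 3 0).1 * (s * y * s⁻¹) = s * (x * y) * s⁻¹ := by rw [← hs]; group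
  obtain ⟨a, b, e'⟩ := k (s * y * s⁻¹) (by rw [conj_pow, y3]; simp) (by rw [e, conj_pow, h]; simp)
    (by rw [e]; simpa using n)
  refine ⟨((ca 3 0).1 ^ (a : ℕ) * swap 3 4 ^ (b : ℕ)) * s, ?_, ?_⟩
  · refine Eq.trans ?_ (k' a b)
    generalize (ca 3 0).1 ^ (a : ℕ) * swap 3 4 ^ (b : ℕ) = c
    rw [← hs]; group
  · rw [← e']; group

theorem a5 {Y : Type*} [Group Y] (e : Y ≃* alternatingGroup (Fin 5)) (x w : Y) (x3 : x ^ 3 = 1)
    (x1 : x ≠ 1) (w2 : w * w = 1) (w1 : w ≠ 1) (h : (x * (w * x⁻¹ * w)) ^ 2 = 1) :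
    ∃ k, k ^ 3 = 1 ∧ (k * x) ^ 2 = 1 ∧ (k * (w * x⁻¹ * w)) ^ 2 = 1 ∧
    (∀ k', k' ^ 3 = 1 → (k' * x) ^ 2 = 1 → (k' * (w * x⁻¹ * w)) ^ 2 = 1 → k' = k) ∧
    closure {x, w * x⁻¹ * w, k} = ⊤ ∧ ∀ θ : Y →* Y, θ x = w * x⁻¹ * w → θ (w * x⁻¹ * w) = x →
      θ k = k → ∀ k', k' ^ 3 = 1 → θ k' = k' → k' = 1 ∨ k' = k ∨ k' = k⁻¹ := by
  have wi : w⁻¹ = w := inv_eq_of_mul_eq_one_right w2
  have y3 : (w * x⁻¹ * w) ^ 3 = 1 := by
    rw [show w * x⁻¹ * w = w * x⁻¹ * w⁻¹ by rw [wi], conj_pow, inv_pow, x3]; simp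
  have n : x * (w * x⁻¹ * w) ≠ 1 := fun e0 => by
    have c : Commute x w := by
      show x * w = w * x
      calc x * w = x * (w * x⁻¹ * w) * w⁻¹ * x := by group
        _ = w * x := by rw [e0, wi, one_mul]
    have k : ∀ g : Perm (Fin 5), Perm.sign g = 1 → g ^ 6 = 1 → g ^ 2 = 1 ∨ g ^ 3 = 1 := by
      decide +kernel
    have p : ∀ n : ℕ, ((e (x * w) : Perm (Fin 5)) ^ n = 1) ↔ x ^ n * w ^ n = 1 := fun n => by
      rw [← c.mul_pow, ← e.map_eq_one_iff, map_pow]
      exact ⟨fun a => Subtype.ext a, fun a => congrArg Subtype.val a⟩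
    have w2' : w ^ 2 = 1 := by rw [pow_two, w2]
    rcases k _ (Perm.mem_alternatingGroup.1 (e (x * w)).2) ((p 6).2 (by
      rw [show 6 = 3 * 2 from rfl, pow_mul, x3, mul_comm 3 2, pow_mul, w2']; simp)) with a | a
    · rw [p, w2', mul_one] at a
      exact x1 (by rw [← x3, pow_succ, a, one_mul])
    · rw [p, x3, one_mul, pow_succ, w2', one_mul] at a
      exact w1 a
  have v : ∀ {g : Y} {n : ℕ}, g ^ n = 1 → (e g : Perm (Fin 5)) ^ n = 1 := fun {g n} hg =>
    congrArg Subtype.val (show e g ^ n = 1 by rw [← map_pow, hg, map_one])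
  have v1 : ∀ {g : Y}, g ≠ 1 → (e g : Perm (Fin 5)) ≠ 1 := fun {g} hg e0 =>
    hg (e.map_eq_one_iff.1 (Subtype.ext e0))
  obtain ⟨s, s1, s2⟩ := a5pair (v x3) (v1 x1) (v y3) (by simpa using v h) (by simpa using v1 n)
  let f := e.trans (MulAut.conjNormal s)
  have := a5q0.map f.symm
  rwa [f.symm_apply_eq.2 (show ca 3 0 = f x from Subtype.ext s1.symm),
    f.symm_apply_eq.2 (show ca 3 1 = f (w * x⁻¹ * w) from Subtype.ext s2.symm)] at this

end Cfsg.Agent.YK
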