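import Cfsg.Agent.H8.Sq6
import Cfsg.Agent.P.B
import Cfsg.Agent.BS.SE
import Cfsg.Agent.GW.Dg4

/-! A strongly closed four-group. -/

set_option autoImplicit false

namespace Cfsg.Agent.YK
open Subgroup FT H4 H5 GW

universe u

theorem y_abs {X : Type u} [Group X] [Finite X] {a b x : X} (f : F4 a b) (T : Sylow 2 X)
    (hT : (T : Subgroup X) ≤ Cen1 a) (xa : x * a * x⁻¹ = b) (xb : x * b * x⁻¹ = a * b)
    (hsc : ∀ g, g * a * g⁻¹ ∈ Cen1 a → g * a * g⁻¹ ∈ V4 a b) (hN : Cen1 a ≤ Nor (V4 a b))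
    (hne : Nor (V4 a b) ≠ ⊤)
    (hP : ∀ Y : Subgroup X, Y.Normal → V4 a b ≤ Y →
      (∀ y ∈ Y, y ∈ Cen1 a → y * y = 1 → y ∈ V4 a b) → ∀ y ∈ Y, y ∈ Cen1 a → y ∈ V4 a b) :
    ∃ Y : Subgroup X, Y.Normal ∧ V4 a b ≤ Y ∧ (∀ y ∈ Y, y ∈ Cen1 a → y ∈ V4 a b) ∧ BS.OC Y ∧
      Nonempty (Y ≃* alternatingGroup (Fin 5)) := by
  have sT : IsSylowOf 2 (T : Subgroup X) (Cen1 a) := (isSylowOf_top T).of_le hT le_top
  have Va : V4 a b ≤ Cen1 a := V_le (c1.2 rfl) f.aH
  have VT : V4 a b ≤ T := sT.le_of_le_normalizer f.two_V Va (hT.trans hN)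
  have xN : x ∈ Nor (V4 a b) := mem_normalizer_of_conjS_le (by
    rw [conj_V, xa, xb]; exact V_le (a_V a b) (mul_mem (t_V a b) (a_V a b)))
  have sq : ∀ v ∈ V4 a b, v * v = 1 := fun v hv => by
    rcases f.mem_V.1 hv with e | e | e | e <;> simp [e, ii f.ht, ii f.ha, f.sq]
  have rot : ∀ v ∈ V4 a b, v ≠ 1 → ∃ u ∈ Nor (V4 a b), u * a * u⁻¹ = v := fun v hv v1 => by
    rcases f.mem_V.1 hv with e | e | e | e
    · exact absurd e v1
    · exact ⟨1, one_mem _, by simp [e]⟩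
    · exact ⟨x, xN, by rw [xa, e]⟩
    · exact ⟨x * x, mul_mem xN xN, by rw [e, ← xb, ← xa]; group⟩
  have om : omegaOne 2 (V4 a b) = V4 a b := le_antisymm ((closure_le _).2 fun v hv => hv.1)
    fun v hv => subset_closure ⟨hv, by rw [pow_two, sq v hv]⟩
  obtain ⟨se, h2, -⟩ := H8.Sq.s3289 T (V4 a b) (fun e => ine f.ht (mem_bot.1 (e ▸ t_V a b)))
    ⟨VT, fun v hv g hg => by
      by_cases v1 : v = 1
      · simp [v1, one_mem]
      obtain ⟨u, -, rfl⟩ := rot v hv v1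
      have e : g * (u * a * u⁻¹) * g⁻¹ = g * u * a * (g * u)⁻¹ := by group
      rw [e] at hg ⊢
      exact hsc _ (hT hg)⟩ _ hne (fun v hv v1 => by
      obtain ⟨u, hu, rfl⟩ := rot v hv v1
      change Cen1 _ ≤ _
      rw [← conj_c1]
      exact (conjS_mono u hN).trans (conjS_eq_of_mem hu).le) (by rw [om])
  have VY : V4 a b ≤ normalClosure (V4 a b : Set X) := le_normalClosure
  have gen : normalClosure (V4 a b : Set X) = closure (Group.conjugatesOfSet (V4 a b : Set X)) :=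
    rfl
  have hn : (normalClosure (V4 a b : Set X)).Normal := inferInstance
  generalize normalClosure (V4 a b : Set X) = Y at se h2 VY gen hn
  have CY := hP Y hn VY fun y hy ya y2 => by
    obtain ⟨c, hc, e⟩ := sT.exists_conj_le (Q := zpowers y) (by
      by_cases y1 : y = 1
      · rw [y1, zpowers_one_eq_bot]; exact IsPGroup.of_bot
      · exact two_zp (orderOf_eq_two' y2 y1)) (zpowers_le.2 ya)
    have m : c * y * c⁻¹ ∈ (T : Subgroup X) ⊓ Y :=
      ⟨e (conj_mem_conjS (mem_zpowers y)), hn.conj_mem y hy c⟩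
    refine mem_of_eq (cmem' (hN hc) (k := c * y * c⁻¹) ?_) (by group)
    rcases h2 with e | e <;> rw [e]
    · exact m
    · exact subset_closure ⟨m, by rw [conj_pow, pow_two, y2]; group⟩
  have oc := BS.oc_top_of_se se
  have f' := f.sub (VY (t_V a b)) (VY (a_V a b))
  have cV : Cen1 (⟨a, VY (t_V a b)⟩ : Y) ≤ V4 ⟨a, VY (t_V a b)⟩ ⟨b, VY (a_V a b)⟩ := fun y hy => by
    rcases f.mem_V.1 (CY y y.2 (c1.2 (congrArg Subtype.val (c1.1 hy)))) with e | e | e | e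
    · exact f'.mem_V.2 (.inl (Subtype.ext e))
    · exact f'.mem_V.2 (.inr (.inl (Subtype.ext e)))
    · exact f'.mem_V.2 (.inr (.inr (.inl (Subtype.ext e))))
    · exact f'.mem_V.2 (.inr (.inr (.inr (Subtype.ext e))))
  have : Nontrivial Y := ⟨⟨_, _, ine f'.ht⟩⟩
  have : IsSimpleGroup Y := ⟨fun K hK => by
    by_cases o : Odd (Nat.card K)
    · have k : ∀ v : Y, v.1 ∈ V4 a b → v ≠ 1 → K ⊓ Cen1 v ≤ ⊥ := fun v hv v1 k hk => by
        obtain ⟨u, -, e⟩ := rot v hv fun e => v1 (Subtype.ext e)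
        have h1 := sq _ (CY _ (hn.conj_mem _ k.2 u⁻¹) (c1'.2 (by
          calc _ = u⁻¹ * (k * (u * a * u⁻¹) * (k : X)⁻¹) * u := by group
            _ = a := by rw [e, show (k : X) * v * (k : X)⁻¹ = v from
                congrArg Subtype.val (c1'.1 hk.2), ← e]; group)))
        rw [conj_mul, conj_eq_one_iff] at h1
        exact eq_one_of_odd_sq (odd_ord o hk.1) (Subtype.ext h1)
      have N : ∀ g, g ∈ Nor K := fun g => (normalizer_eq_top_iff.2 hK).ge trivial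
      exact .inl (le_bot_iff.1 (f'.gen (N _) (N _) o (k _ (t_V a b) (ine f'.ht))
        (k _ (a_V a b) (ine f'.ha)) (k _ (mul_mem (t_V a b) (a_V a b)) (ine f'.hta))))
    · refine .inr (eq_top_iff.2 fun y _ => ?_)
      have : Y ≤ K.map Y.subtype := gen.le.trans ((closure_le _).2 fun c hc => by
        have hY : c ∈ Y := gen.ge (subset_closure hc)
        obtain ⟨v, hv, e⟩ := Group.mem_conjugatesOfSet_iff.1 hc
        obtain ⟨g, rfl⟩ := isConj_iff.1 e
        by_cases v1 : v = 1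
        · simp [v1, one_mem]
        exact ⟨⟨_, hY⟩, oc.mem_of_even le_top (normalizer_eq_top_iff.2 hK).ge o trivial
          ⟨fun e => v1 (conj_eq_one_iff.1 (congrArg Subtype.val e)), Subtype.ext (by
            change g * v * g⁻¹ * (g * v * g⁻¹) = 1
            rw [conj_mul, sq v hv]; group)⟩, rfl⟩)
      obtain ⟨k, hk, e⟩ := this y.2
      exact (Subtype.ext e : k = y) ▸ hk⟩
  refine ⟨Y, hn, VY, CY, fun c hc d hd i1 i2 => ?_, P.a5_of_normal_four BS.seThm f'.ht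
    (V_le (c1.2 rfl) f'.aH) (H9.isKleinFour_iff.2 ⟨f'.card_V, fun v hv => by
      rcases f'.mem_V.1 hv with e | e | e | e <;> simp [e, pow_two, ii f'.ht, ii f'.ha, f.sq]⟩)
    (by rw [relIndex_eq_one.2 cV]; norm_num) (cV.trans le_normalizer)⟩
  obtain ⟨g, -, e⟩ := oc ⟨c, hc⟩ trivial ⟨d, hd⟩ trivial
    ⟨fun e => i1.1 (congrArg Subtype.val e), Subtype.ext i1.2⟩
    ⟨fun e => i2.1 (congrArg Subtype.val e), Subtype.ext i2.2⟩
  exact ⟨g, g.2, congrArg Subtype.val e⟩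

end Cfsg.Agent.YK
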