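import Cfsg.Agent.YK.Y1
import Cfsg.Agent.YK.Y2
import Cfsg.Agent.YK.C1

/-! The structure of the centralizer of `ga` in the alternating case. -/

set_option autoImplicit false

namespace Cfsg.Agent.YK
open Subgroup FT H4 H5 GW

variable {G : Type*} [Group G] {S : St G} {x g y : G} {w : W} {Y : Subgroup G}

theorem y_w1 (h : Commute w ga) : Commute w w1 := y_d.1 ▸ (al_comm w).mul_right h

theorem y_in (h1 : Commute g (S.ι w1)) (h2 : Commute g (S.ι ga)) :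
    ∃ w, Commute w ga ∧ S.ι w = g := by
  obtain ⟨w, rfl⟩ := S.cen g (by rw [y_d.2.1, map_mul]; exact h1.mul_right h2)
  exact ⟨w, S.inj (by rw [map_mul, map_mul]; exact h2.eq), rfl⟩

theorem y_f4 (S : St G) : F4 (S.ι w1) (S.ι s1) := by
  obtain ⟨-, -, -, a1, a2, a3, a4, a5, a6, -⟩ := y_d
  exact ⟨orderOf_eq_two' (by rw [← map_mul, a1, map_one]) fun e => a3 (S.inj (by rw [e, map_one])),
    orderOf_eq_two' (by rw [← map_mul, a2, map_one]) fun e => a4 (S.inj (by rw [e, map_one])),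
    by rw [← map_mul, a5, map_mul], fun e => a6 (S.inj e)⟩

theorem y_mV : S.ι w ∈ V4 (S.ι w1) (S.ι s1) ↔ V1 w := by
  rw [(y_f4 S).mem_V, ← map_mul, ← map_one S.ι, y_d.2.2.2.2.2.2.2.1]
  simp only [S.inj.eq_iff, V1]

theorem y_exV (h : y ∈ V4 (S.ι w1) (S.ι s1)) : ∃ v, S.ι v = y := by
  rcases (y_f4 S).mem_V.1 h with e | e | e | e
  exacts [⟨1, by rw [e, map_one]⟩, ⟨_, e.symm⟩, ⟨_, e.symm⟩, ⟨_, by rw [e, map_mul]⟩]

theorem y_dec (hV : V4 (S.ι w1) (S.ι s1) ≤ Y) (hy : y ∈ Y) (c : Commute y (S.ι ga))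
    (hg : Commute g (S.ι ga)) (e : y * S.ι w1 * y⁻¹ = g * S.ι w1 * g⁻¹) :
    ∃ y ∈ Y, ∃ w, (Q4 w ∨ Q4 (t1 * w)) ∧ g = y * S.ι w := by
  obtain ⟨w, hw, e'⟩ := y_in (S := S) (g := y⁻¹ * g) (c1c.1 (show y⁻¹ * g ∈ Cen1 (S.ι w1) from c1'.2 <| by
    calc _ = y⁻¹ * (g * S.ι w1 * g⁻¹) * y := by group
      _ = _ := by rw [← e]; group)) (c.inv_left.mul_left hg)
  obtain ⟨v, hv, q⟩ := (y_c w hw).2.2.1
  refine ⟨y * (S.ι v)⁻¹, mul_mem hy (inv_mem (hV (y_mV.2 ?_))), v * w, q, by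
    rw [map_mul, e']; group⟩
  simpa [V1] using hv

theorem y_three (h : x ^ 3 = 1) (hy : y ∈ zpowers x) : y = 1 ∨ y = x ∨ y = x⁻¹ := by
  obtain ⟨k, rfl⟩ := hy
  have e : x ^ k = x ^ (k % 3) := zpow_eq_zpow_emod k (by exact_mod_cast h)
  have : k % 3 = 0 ∨ k % 3 = 1 ∨ k % 3 = 2 := by omega
  simp only [e]
  rcases this with e | e | e <;> rw [e]
  · simp
  · simp
  · exact .inr (.inr (eq_inv_of_mul_eq_one_left (by rw [← h]; group)))

namespace AnH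
variable (h : AnH S x)
include h

theorem yxg : Commute x (S.ι ga) := h.xq ga y_d.2.2.1

theorem yxs : x * S.ι s1 * x⁻¹ = S.ι w1 * S.ι s1 := by
  rw [h.xs, ← map_mul, y_d.2.2.2.2.2.2.2.1]

theorem ynx : ¬ Commute x (S.ι w1) := fun e =>
  (y_f4 S).ne (by rw [← h.xw, e.eq, mul_inv_cancel_right])

theorem small [Finite G] (hN : ∀ g, Commute g (S.ι ga) → g ∈ Nor (V4 (S.ι w1) (S.ι s1))) :
    YS S x (closure {x, S.ι w1}) := by
  have f := y_f4 S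
  have xY : x ∈ closure {x, S.ι w1} := subset_closure (by simp)
  have wY : S.ι w1 ∈ closure {x, S.ι w1} := subset_closure (by simp)
  have hV : V4 (S.ι w1) (S.ι s1) ≤ closure {x, S.ι w1} :=
    V_le wY (h.xw ▸ mul_mem (mul_mem xY wY) (inv_mem xY))
  have cq : ∀ y ∈ closure {x, S.ι w1}, ∀ q, Q4 q → Commute y (S.ι q) := fun y hy q hq =>
    c1c.1 ((closure_le (Cen1 (S.ι q))).2 (by
      rintro _ (rfl | rfl)
      exacts [c1c.2 (h.xq q hq), c1c.2 ((y_w1 (y_e q hq)).symm.map S.ι)]) hy)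
  have dec : ∀ g, Commute g (S.ι ga) →
      ∃ y ∈ closure {x, S.ι w1}, ∃ w, (Q4 w ∨ Q4 (t1 * w)) ∧ g = y * S.ι w := fun g hg => by
    rcases f.mem_V.1 (cmem (hN g hg) (t_V _ _)) with e | e | e | e
    · exact absurd e (ine (iconj f.ht g))
    · exact y_dec hV (one_mem _) (Commute.one_left _) hg (by simp [e])
    · exact y_dec hV xY h.yxg hg (by rw [e, h.xw])
    · exact y_dec hV (mul_mem xY xY) (h.yxg.mul_left h.yxg) hg (by
        rw [e, ← h.yxs, ← h.xw]; group)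
  have nq : ∀ q, Q4 q → S.ι q ∈ Nor (closure {x, S.ι w1}) := fun q hq =>
    mcnor (cen.2 fun y hy => (cq y hy q hq).symm)
  have tt : S.ι t1 * S.ι t1 = 1 := by
    rw [← map_mul, y_d.2.2.2.2.2.2.2.2.2.2.2.2.2.2.2.2.2.2.1, map_one]
  have nt : S.ι t1 ∈ Nor (closure {x, S.ι w1}) := mem_normalizer_of_conjS_le (by
    rw [conjS, MonoidHom.map_closure, closure_le]
    rintro _ ⟨_, rfl | rfl, rfl⟩
    · change S.ι t1 * _ * (S.ι t1)⁻¹ ∈ _
      rw [inv_eq_of_mul_eq_one_right tt, h.xt]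
      exact inv_mem xY
    · change S.ι t1 * _ * (S.ι t1)⁻¹ ∈ _
      rw [(y_d.2.2.2.2.2.2.2.2.2.2.2.2.2.2.2.2.2.1.map S.ι).eq, mul_inv_cancel_right]
      exact wY)
  refine ⟨h, xY, wY, cq, fun g hg y hy => ?_, dec, fun w hw => ?_, .inl rfl⟩
  · obtain ⟨y', hy', w, e, rfl⟩ := dec g hg
    refine cmem (mul_mem (le_normalizer hy') ?_) hy
    rcases e with e | e
    · exact nq w e
    · exact (mul_mem_cancel_left nt).1 (map_mul S.ι t1 w ▸ nq _ e)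
  · have le : closure {x, S.ι w1} ≤ V4 (S.ι w1) (S.ι s1) ⊔ zpowers x := (closure_le _).2 (by
      rintro _ (rfl | rfl)
      exacts [mem_sup_right (mem_zpowers _), mem_sup_left (t_V _ _)])
    obtain ⟨v, hv, u, hu, e⟩ :=
      (mem_sup_of_le_normalizer_left (zpowers_le.2 (hN x h.yxg))).1 (le hw)
    obtain ⟨v, rfl⟩ := y_exV hv
    have c : Commute u (S.ι w1) := by
      rw [y_d.1, map_mul]
      refine Commute.mul_right ?_ (c1c.1 (zpowers_le.2 (c1c.2 h.yxg) hu))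
      rw [eq_inv_mul_of_mul_eq e, ← map_inv, ← map_mul]
      exact (al_comm _).map S.ι
    rcases y_three h.x3 hu with rfl | rfl | rfl
    · rw [mul_one] at e
      exact y_mV.1 (e ▸ hv)
    · exact absurd c h.ynx
    · exact absurd c.inv_left (by simpa using h.ynx)

theorem syl [Finite G] : ∃ T : Sylow 2 (Cen1 (S.ι ga)), ∀ t ∈ T, Commute t.1 (S.ι w1) := by
  have s0 : IsSylowOf 2 (S0.map S.ι) ⊤ := ⟨le_top, PS.isPGroup'.map _, by
    rw [relIndex_top_right, index_map, (MonoidHom.ker_eq_bot_iff _).2 S.inj, sup_bot_eq]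
    exact fun e => (Nat.prime_two.dvd_mul.1 e).elim PS.not_dvd_index
      (Nat.two_dvd_ne_zero.2 (Nat.odd_iff.1 S.odd))⟩
  have s1 := s0.map_conj (le_normalizer (mem_top (S.ι (r 0 4 * r 1 5))))
  have k : ∀ t ∈ conjS (S.ι (r 0 4 * r 1 5)) (S0.map S.ι),
      Commute t (S.ι w1) ∧ Commute t (S.ι ga) := by
    rintro _ ⟨_, ⟨a, ha, rfl⟩, rfl⟩
    have := (S0_w3 a ha).conj (r 0 4 * r 1 5)
    rw [y_d.2.2.2.2.2.2.2.2.2.2.2.2.2.2.2.2.2.2.2.2.1] at this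
    have e : (MulAut.conj (S.ι (r 0 4 * r 1 5))).toMonoidHom (S.ι a) =
        S.ι (r 0 4 * r 1 5 * a * (r 0 4 * r 1 5)⁻¹) := by
      rw [map_mul S.ι _ _⁻¹, map_mul S.ι _ a, map_inv]; rfl
    rw [e, y_d.2.2.2.2.2.2.2.2.2.2.2.2.2.2.2.2.2.2.2.2.2]
    exact ⟨this.map S.ι, ((al_comm _).mul_right this).map S.ι⟩
  obtain ⟨T, e⟩ := (s1.of_le (fun t ht => c1c.2 (k t ht).2) le_top).exists_sylow
  exact ⟨T, fun t ht => (k t (e.le ⟨t, ht, rfl⟩)).1⟩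

end AnH

theorem yThm [Finite G] (h : AnH S x) : ∃ Y, YS S x Y := by
  by_cases hN : ∀ g, Commute g (S.ι ga) → g ∈ Nor (V4 (S.ι w1) (S.ι s1))
  · exact ⟨_, h.small hN⟩
  obtain ⟨-, e1, qg, -, -, -, -, -, -, gg, aa, m1, m2, cw, cs, c2, c3, -, -, q4, -⟩ := y_d
  have f := y_f4 S
  have wX : S.ι w1 ∈ Cen1 (S.ι ga) := c1c.2 (cw.map S.ι)
  have sX : S.ι s1 ∈ Cen1 (S.ι ga) := c1c.2 (cs.map S.ι)
  have f' := f.sub wX sX
  have mV : ∀ y : Cen1 (S.ι ga), y ∈ V4 ⟨_, wX⟩ ⟨_, sX⟩ ↔ y.1 ∈ V4 (S.ι w1) (S.ι s1) := fun y => by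
    simp only [f.mem_V, f'.mem_V, Subtype.ext_iff, coe_mul, coe_one]
  have inW : ∀ y : Cen1 (S.ι ga), y ∈ Cen1 ⟨_, wX⟩ → ∃ w, Commute w ga ∧ S.ι w = y := fun y hy =>
    y_in (congrArg Subtype.val (c1.1 hy)) (c1c.1 y.2)
  obtain ⟨T, hT⟩ := h.syl
  obtain ⟨Y, hn, VY, CY, oc, ⟨e⟩⟩ := y_abs (x := ⟨x, c1c.2 h.yxg⟩) f' T
    (fun t ht => c1.2 (Subtype.ext (hT t ht))) (Subtype.ext h.xw) (Subtype.ext h.yxs)
    (fun g hg => by
      obtain ⟨w, hw, e⟩ := inW _ hg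
      have e' : S.ι w = g * S.ι w1 * (g : G)⁻¹ := e
      have w2 : w * w = 1 := S.inj (by rw [map_mul, e', conj_mul, ii f.ht, map_one]; group)
      rw [mV, ← e, y_mV]
      refine (y_c w hw).2.1 w2 (m1 ▸ (h.ty _ _ (S.inj (by rw [map_mul, ii f.ht, map_one])) w2
        (isConj_iff.2 ⟨g, e'.symm⟩)).symm) (m2 ▸ (h.ty _ _ aa ?_ (isConj_iff.2 ⟨g, ?_⟩)).symm)
      · rw [hw.symm.mul_mul_mul_comm, w2, gg, one_mul]
      · rw [e1, map_mul, map_mul, e', ← conj_mul, c1'.1 g.2])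
    (fun g hg => mem_normalizer_of_conjS_le (by
      obtain ⟨w, hw, e⟩ := inW _ hg
      rw [conj_V, c1'.1 hg]
      refine V_le (t_V _ _) ((mV _).2 ?_)
      change g * S.ι s1 * (g : G)⁻¹ ∈ _
      rw [← e, ← map_inv, ← map_mul, ← map_mul]
      exact y_mV.2 (y_c w hw).1))
    (fun e => hN fun g hg => mnor fun v hv => by
      have vX : v ∈ Cen1 (S.ι ga) := (V_le wX sX : V4 _ _ ≤ _) hv
      exact (mV _).1 (cmem (e.ge (mem_top ⟨g, c1c.2 hg⟩)) ((mV ⟨v, vX⟩).2 hv)))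
    (fun Y hn VY hi y hy ya => by
      obtain ⟨w, hw, e⟩ := inW _ ya
      rw [mV, ← e, y_mV]
      refine (y_c w hw).2.2.2.1.resolve_right fun ⟨m, hm, m2, n⟩ => n ?_
      have k : ∀ m, Commute m ga → ∀ hm : S.ι m ∈ Cen1 (S.ι ga), (⟨_, hm⟩ : Cen1 (S.ι ga)) ∈ Y →
          m * m = 1 → V1 m := fun m c hm hY m2 => y_mV.1 ((mV ⟨_, hm⟩).1 (hi _ hY
        (c1.2 (Subtype.ext ((y_w1 c).map S.ι))) (Subtype.ext (by
          change S.ι m * S.ι m = 1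
          rw [← map_mul, m2, map_one]))))
      have k' : ∀ q, Commute q ga → w * q * w⁻¹ * q⁻¹ * (w * q * w⁻¹ * q⁻¹) = 1 →
          V1 (w * q * w⁻¹ * q⁻¹) := fun q c => by
        have c' := ((hw.mul_left c).mul_left hw.inv_left).mul_left c.inv_left
        refine k _ c' (c1c.2 (c'.map S.ι)) (mem_of_eq (mul_mem hy
          (hn.conj_mem _ (inv_mem hy) ⟨_, c1c.2 (c.map S.ι)⟩)) (Subtype.ext ?_))
        simp [e, mul_assoc]
      simp only [List.mem_cons, List.not_mem_nil, or_false] at hm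
      rcases hm with rfl | rfl | rfl | rfl
      · exact k _ hw (e ▸ y.2) (mem_of_eq hy (Subtype.ext e.symm)) m2
      · exact k _ (hw.mul_left cs) (c1c.2 ((hw.mul_left cs).map S.ι))
          (mem_of_eq (mul_mem hy (VY (a_V _ _))) (Subtype.ext (by simp [e]))) m2
      · exact k' _ c2 m2
      · exact k' _ c3 m2)
  have e' := (Y.equivMapOfInjective _ (Cen1 (S.ι ga)).subtype_injective).symm.trans e
  have nrm : ∀ g, Commute g (S.ι ga) → ∀ y ∈ Y.map (Cen1 (S.ι ga)).subtype,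
      g * y * g⁻¹ ∈ Y.map (Cen1 (S.ι ga)).subtype := by
    rintro g hg _ ⟨y, hy, rfl⟩
    exact ⟨_, hn.conj_mem y hy ⟨g, c1c.2 hg⟩, rfl⟩
  have YH : ∀ w, S.ι w ∈ Y.map (Cen1 (S.ι ga)).subtype → V1 w := by
    rintro w ⟨y, hy, e⟩
    have e : (y : G) = S.ι w := e
    have c : Commute w ga := S.inj (by rw [map_mul, map_mul, ← e]; exact c1.1 y.2)
    exact y_mV.1 (e ▸ (mV y).1 (CY y hy (c1.2 (Subtype.ext (by
      change (y : G) * S.ι w1 = S.ι w1 * y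
      rw [e]; exact (y_w1 c).map S.ι)))))
  have hV : V4 (S.ι w1) (S.ι s1) ≤ Y.map (Cen1 (S.ι ga)).subtype :=
    V_le ⟨_, VY (t_V _ _), rfl⟩ ⟨_, VY (a_V _ _), rfl⟩
  have oc' : ∀ g, Commute g (S.ι ga) → ∃ y ∈ Y.map (Cen1 (S.ι ga)).subtype, Commute y (S.ι ga) ∧
      y * S.ι w1 * y⁻¹ = g * S.ι w1 * g⁻¹ := fun g hg => by
    have i : BS.Inv (⟨_, wX⟩ : Cen1 (S.ι ga)) := ⟨ine f'.ht, ii f'.ht⟩
    obtain ⟨y, hy, e⟩ := oc _ (VY (t_V _ _)) _ (hn.conj_mem _ (VY (t_V _ _)) ⟨g, c1c.2 hg⟩) i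
      (i.conj _)
    exact ⟨y, ⟨y, hy, rfl⟩, c1c.1 y.2, congrArg Subtype.val e⟩
  generalize Y.map (Cen1 (S.ι ga)).subtype = Z at e' nrm YH hV oc'
  have xY : x ∈ Z := by
    obtain ⟨y, hy, c, e⟩ := oc' x h.yxg
    obtain ⟨w, hw, e'⟩ := y_in (S := S) (g := x⁻¹ * y) (c1c.1 (show x⁻¹ * y ∈ Cen1 (S.ι w1) from c1'.2 <| by
      calc _ = x⁻¹ * (y * S.ι w1 * y⁻¹) * x := by group
        _ = _ := by rw [e]; group)) (h.yxg.inv_left.mul_left c)
    have k : ∀ q, Q4 q → V1 (q * w * q⁻¹ * w⁻¹) := fun q hq => YH _ (by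
      have := nrm _ h.yxg.inv_left _ (mul_mem (nrm _ ((y_e q hq).map S.ι) y hy) (inv_mem hy))
      refine mem_of_eq this ?_
      simp only [map_mul, map_inv, e']
      calc _ = x⁻¹ * S.ι q * y * (S.ι q)⁻¹ * y⁻¹ * x := by group
        _ = _ := by rw [(h.xq q hq).inv_left.eq]; group)
    have ex : x = y * (S.ι w)⁻¹ := by rw [e']; group
    rcases (y_c w hw).2.2.2.2 (k _ q4.1) (k _ q4.2.1) (k _ q4.2.2.1) (k _ q4.2.2.2) with v | v
    · exact ex ▸ mul_mem hy (inv_mem (hV (y_mV.2 v)))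
    · have := pow_mem (mul_mem hy (inv_mem (hV (y_mV.2 v)))) 4
      rw [map_mul, (hw.map S.ι).eq, mul_inv_rev, ← mul_assoc, ← ex, h.yxg.inv_right.mul_pow,
        pow_succ x, h.x3, one_mul, inv_pow, ← map_pow, show 4 = 2 * 2 from rfl, pow_mul, pow_two ga,
        gg, one_pow, map_one, inv_one, mul_one] at this
      exact this
  have wY := hV (t_V _ _)
  refine ⟨Z, h, xY, wY, fun y hy q hq => ?_, nrm, fun g hg => ?_, YH, .inr ⟨e'⟩⟩
  · obtain ⟨k, k1, k2, k3, k4, k5, -⟩ := a5 e' ⟨x, xY⟩ ⟨_, wY⟩ (Subtype.ext h.x3)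
      (fun c => h.ynx (by rw [show x = 1 from congrArg Subtype.val c]; exact Commute.one_left _))
      (Subtype.ext (ii f.ht)) (fun c => ine f.ht (congrArg Subtype.val c)) (Subtype.ext (by
        change (x * (S.ι w1 * x⁻¹ * S.ι w1)) ^ 2 = 1
        rw [← mul_assoc, ← mul_assoc, h.xw, pow_two, f.symm.sq]))
    have cx := c1'.1 (c1c.2 (h.xq q hq).symm)
    have cw := c1'.1 (c1c.2 ((y_w1 (y_e q hq)).map S.ι))
    have cy : S.ι q * (S.ι w1 * x⁻¹ * S.ι w1) * (S.ι q)⁻¹ = S.ι w1 * x⁻¹ * S.ι w1 := by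
      rw [← conj_mul, ← conj_mul, cw, ← conj_inv, cx]
    have ek := k4 ⟨_, nrm _ ((y_e q hq).map S.ι) k k.2⟩ (Subtype.ext (by
        change (S.ι q * k * (S.ι q)⁻¹) ^ 3 = 1
        rw [conj_pow, show (k : G) ^ 3 = 1 from congrArg Subtype.val k1]; group))
      (Subtype.ext (by
        change (S.ι q * k * (S.ι q)⁻¹ * x) ^ 2 = 1
        rw [← cx, conj_mul, conj_pow, show ((k : G) * x) ^ 2 = 1 from congrArg Subtype.val k2]
        group))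
      (Subtype.ext (by
        change (S.ι q * k * (S.ι q)⁻¹ * (S.ι w1 * x⁻¹ * S.ι w1)) ^ 2 = 1
        rw [← cy, conj_mul, conj_pow,
          show ((k : G) * (S.ι w1 * x⁻¹ * S.ι w1)) ^ 2 = 1 from congrArg Subtype.val k3]
        group))
    have : (⊤ : Subgroup Z) ≤ (Cen1 (S.ι q)).subgroupOf Z := k5.ge.trans ((closure_le _).2 (by
      rintro _ (rfl | rfl | rfl)
      exacts [c1s.1 (c1'.2 cx), c1s.1 (c1'.2 cy), c1s.1 (c1'.2 (congrArg Subtype.val ek))]))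
    exact c1c.1 (this (mem_top ⟨y, hy⟩))
  · obtain ⟨y, hy, c, e⟩ := oc' g hg
    exact y_dec hV hy c hg e

end Cfsg.Agent.YK
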